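import Cfsg.Agent.Lib.Helper6.TCD.HNP1sa.P0
import Cfsg.Agent.Lib.Helper6.TCD.HNP1sa.P1
import Cfsg.Agent.Lib.Helper6.TCD.HNP1sa.P2
import Cfsg.Agent.Lib.Helper6.TCD.HNP1sa.P3
import Cfsg.Agent.Lib.Helper6.TCD.HNP1sa.GT
import Cfsg.Agent.Lib.Helper6.TCD.HNP1sa.HR
import Cfsg.Agent.Lib.Helper6.TCD.HNP1sa.Q2
import Cfsg.Agent.Lib.Helper6.TCD.HNP1sa.Q3
import Cfsg.Agent.Lib.Helper6.TCD.HNP1sa.Q4
import Cfsg.Agent.Lib.Helper6.TCD.HNP1sa.Q5
set_option autoImplicit false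
namespace Cfsg.Agent.Lib.Helper6.TCD.HNP1sa
def ncol : Nat := 4
def INV : Nat := 8961
def N : Nat := 1512
noncomputable def px (c p : Nat) : Nat := Nat.rec (motive := fun _ => Nat) (P0 p) (fun k0 _ => Nat.rec (motive := fun _ => Nat) (P1 p) (fun k1 _ => Nat.rec (motive := fun _ => Nat) (P2 p) (fun k2 _ => P3 p) k1) k0) c
noncomputable def H0 (p : Nat) : Nat := P3 (P1 (P3 (P1 (P2 (P2 (P0 (P2 p)))))))
noncomputable def H1 (p : Nat) : Nat := P2 (P2 (P0 (P2 (P0 (P2 (P2 (P0 (P2 (P0 p)))))))))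
noncomputable def hsel (c p : Nat) : Nat := Nat.rec (motive := fun _ => Nat) (H0 p) (fun k0 _ => H1 p) c
noncomputable def lab (p : Nat) : Nat := Nat.land (HR p) 15
noncomputable def rnk (p : Nat) : Nat := Nat.shiftRight (HR p) 8
noncomputable def mv (p : Nat) : Nat := hsel (Nat.land (Nat.shiftRight (HR p) 4) 15) p
noncomputable def isRoot (p : Nat) : Bool := Bool.rec (Bool.rec (Bool.rec (Bool.rec (Bool.rec (Bool.rec (Bool.rec (Bool.rec (Bool.rec (Bool.rec (Bool.rec (Bool.rec (Bool.rec (Bool.rec (false) true (Nat.beq p 1151)) true (Nat.beq p 1150)) true (Nat.beq p 738)) true (Nat.beq p 736)) true (Nat.beq p 565)) true (Nat.beq p 563)) true (Nat.beq p 27)) true (Nat.beq p 25)) true (Nat.beq p 6)) true (Nat.beq p 5)) true (Nat.beq p 3)) true (Nat.beq p 2)) true (Nat.beq p 1)) true (Nat.beq p 0)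
noncomputable def R0 (p : Nat) : Nat := P2 (P2 (P2 (P2 (P2 (P2 p)))))
noncomputable def R1 (p : Nat) : Nat := P3 (P0 (P0 (P2 (P0 (P0 p)))))
noncomputable def U2 (p : Nat) : Nat := P2 (P0 (P3 (P1 p)))
noncomputable def R2 (p : Nat) : Nat := Q2 (Q2 (Q2 p))
noncomputable def U3 (p : Nat) : Nat := P2 (P2 (P2 (P0 (P2 (P2 (P1 p))))))
noncomputable def R3 (p : Nat) : Nat := Q3 (Q3 (Q3 p))
noncomputable def U4 (p : Nat) : Nat := P2 (P0 p)
noncomputable def R4 (p : Nat) : Nat := Q4 (Q4 (Q4 (Q4 (Q4 (Q4 (Q4 (Q4 p)))))))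
noncomputable def U5 (p : Nat) : Nat := P2 (P2 (P2 (P0 (P2 (P0 p)))))
noncomputable def R5 (p : Nat) : Nat := Q5 (Q5 (Q5 (Q5 p)))
noncomputable def R6 (p : Nat) : Nat := P1 (P0 p)
noncomputable def R7 (p : Nat) : Nat := P3 (P2 p)
end Cfsg.Agent.Lib.Helper6.TCD.HNP1sa
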