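import Cfsg.Agent.Lib.Helper6.TC11
import Cfsg.Agent.Lib.Helper6.TCD.HNP1sa.Par
set_option autoImplicit false
set_option maxRecDepth 1000000
set_option Elab.async false
open Cfsg.Agent.Lib.Helper6.TC
namespace Cfsg.Agent.Lib.Helper6.TCD.HNP1sa
theorem chkT : chkTree px GT 4 1512 = true := by decide +kernel
theorem chkH0 : Nat.beq (H0 0) 0 = true := by decide +kernel
theorem chkH1 : Nat.beq (H1 0) 0 = true := by decide +kernel
theorem chkRk : chkRank isRoot rnk mv 1512 = true := by decide +kernel
theorem chkCnt0 : cntLab lab 0 1512 = 1 := by decide +kernel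
theorem chkCnt1 : cntLab lab 1 1512 = 250 := by decide +kernel
theorem chkCnt2 : cntLab lab 2 1512 = 250 := by decide +kernel
theorem chkCnt3 : cntLab lab 3 1512 = 250 := by decide +kernel
theorem chkCnt4 : cntLab lab 4 1512 = 1 := by decide +kernel
theorem chkCnt5 : cntLab lab 5 1512 = 250 := by decide +kernel
theorem chkCnt6 : cntLab lab 6 1512 = 250 := by decide +kernel
theorem chkCnt7 : cntLab lab 7 1512 = 250 := by decide +kernel
theorem chkCnt8 : cntLab lab 8 1512 = 2 := by decide +kernel
theorem chkCnt9 : cntLab lab 9 1512 = 2 := by decide +kernel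
theorem chkCnt10 : cntLab lab 10 1512 = 2 := by decide +kernel
theorem chkCnt11 : cntLab lab 11 1512 = 2 := by decide +kernel
theorem chkCnt12 : cntLab lab 12 1512 = 1 := by decide +kernel
theorem chkCnt13 : cntLab lab 13 1512 = 1 := by decide +kernel
end Cfsg.Agent.Lib.Helper6.TCD.HNP1sa
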