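import Cfsg.Agent.Lib.Helper6.TC13
import Cfsg.Agent.Lib.Helper6.TCD.HNP1sa.Par
set_option autoImplicit false
set_option maxRecDepth 1000000
set_option Elab.async false
open Cfsg.Agent.Lib.Helper6.TC
namespace Cfsg.Agent.Lib.Helper6.TCD.HNP1sa
theorem chkR0_0 : chkFix R0 0 1512 = true := by decide +kernel
theorem chkR1_0 : chkFix R1 0 1512 = true := by decide +kernel
theorem chkQ2_0 : chkEqF Q2 U2 0 1512 = true := by decide +kernel
theorem chkR2_0 : chkFix R2 0 1512 = true := by decide +kernel
theorem chkQ3_0 : chkEqF Q3 U3 0 1512 = true := by decide +kernel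
theorem chkR3_0 : chkFix R3 0 1512 = true := by decide +kernel
theorem chkQ4_0 : chkEqF Q4 U4 0 1512 = true := by decide +kernel
theorem chkR4_0 : chkFix R4 0 1512 = true := by decide +kernel
theorem chkQ5_0 : chkEqF Q5 U5 0 1512 = true := by decide +kernel
theorem chkR5_0 : chkFix R5 0 1512 = true := by decide +kernel
theorem chkR6_0 : chkFix R6 0 1512 = true := by decide +kernel
theorem chkR7_0 : chkFix R7 0 1512 = true := by decide +kernel
end Cfsg.Agent.Lib.Helper6.TCD.HNP1sa
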